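import Cfsg.Agent.H577.XZ.Trans
import Cfsg.Agent.H199.PslAut

/-!
# S4933, label route: the transfer from the principal block of `GL_n(F)` to that of `PSL_n(F)` (helper695)

`p ≠ 2`, `p` not the characteristic, `p ∤ |F| - 1`: a member of `B_0(GL_n(F))` restricted to `SL_n(F)` is the
inflation of a member `ψ` of `B_0(PSL_n(F))`; `ψ` is invariant under the diagonal automorphisms and under the field
and inverse-transpose automorphisms fixing `χ`.
-/

set_option autoImplicit false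

open Cfsg Subgroup Matrix
open Cfsg.Agent.ClassicalGeometry.AutPSL.Root
open Cfsg.Agent.ClassicalGeometry.AutPSL.Auto
open Cfsg.Agent.ClassicalGeometry.AutPSL.Main
open Cfsg.Agent.H199.PslAut

namespace Cfsg.Agent.H695.LB.Tr

variable {F : Type} [Field F] [Fintype F] {n : ℕ} {p : ℕ} [hp : Fact p.Prime] {M : Ideal AlgInt}

theorem exists_psl (hM : IsPModular p M) (hp2 : p ≠ 2) (hn : n ≠ 0) (hpF : (p : F) ≠ 0)
    (hpq : ¬ p ∣ Fintype.card F - 1) (χ : IrrCharacter (GL (Fin n) F)) (hχ : χ ∈ principalBlock M (GL (Fin n) F)) :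
    ∃ ψ : IrrCharacter (Matrix.ProjectiveSpecialLinearGroup (Fin n) F),
      ψ ∈ principalBlock M (Matrix.ProjectiveSpecialLinearGroup (Fin n) F) ∧
      (∀ s : Matrix.SpecialLinearGroup (Fin n) F, (ψ : Matrix.ProjectiveSpecialLinearGroup (Fin n) F → ℂ) (pr s) = (χ : GL (Fin n) F → ℂ) (s : GL (Fin n) F)) ∧
      (∀ (g : GL (Fin n) F) (x : Matrix.ProjectiveSpecialLinearGroup (Fin n) F),
        (ψ : Matrix.ProjectiveSpecialLinearGroup (Fin n) F → ℂ) (Psi n F g x) = (ψ : Matrix.ProjectiveSpecialLinearGroup (Fin n) F → ℂ) x) ∧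
      (∀ σ : F ≃+* F, (∀ g, (χ : GL (Fin n) F → ℂ) (mapGL σ g) = (χ : GL (Fin n) F → ℂ) g) →
        ∀ x, (ψ : Matrix.ProjectiveSpecialLinearGroup (Fin n) F → ℂ) (phi n F σ x) = (ψ : Matrix.ProjectiveSpecialLinearGroup (Fin n) F → ℂ) x) ∧
      ((∀ g, (χ : GL (Fin n) F → ℂ) (itGL g) = (χ : GL (Fin n) F → ℂ) g) → ∀ x, (ψ : Matrix.ProjectiveSpecialLinearGroup (Fin n) F → ℂ) (iot n F x) = (ψ : Matrix.ProjectiveSpecialLinearGroup (Fin n) F → ℂ) x) := by
  classical
  obtain ⟨P⟩ : Nonempty (Sylow p (GL (Fin n) F)) := inferInstance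
  have hsup := H577.XZ.sup_gl hp2 hn hpF hpq P
  have hirr := H685.Alperin.isIrr_restrict hM P hsup hχ
  have hmem := H685.Alperin.restrict_mem hM hχ hirr
  obtain ⟨ψ, h1, h2⟩ := Blocks.PrincipalInflate.exists_comp hM (H577.XZ.toPSL_surjective (n := n) (F := F))
    (H577.XZ.toPSL_ker hn hpq) hmem
  have key : ∀ s : Matrix.SpecialLinearGroup (Fin n) F, (ψ : Matrix.ProjectiveSpecialLinearGroup (Fin n) F → ℂ) (pr s) = (χ : GL (Fin n) F → ℂ) (s : GL (Fin n) F) := by
    intro s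
    have hs : Matrix.SpecialLinearGroup.toGL s ∈ (Matrix.GeneralLinearGroup.det : GL (Fin n) F →* Fˣ).ker := by
      rw [MonoidHom.mem_ker]
      apply Units.ext
      exact s.2
    exact (congrFun h2 ⟨_, hs⟩).symm
  refine ⟨ψ, h1, key, ?_, ?_, ?_⟩
  · intro g x
    obtain ⟨x, rfl⟩ := pr_surjective x
    rw [Psi_pr, key, key]
    have h3 : ((cj g x : Matrix.SpecialLinearGroup (Fin n) F) : GL (Fin n) F) = g * (x : GL (Fin n) F) * g⁻¹ := by
      apply Units.ext
      rfl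
    rw [h3]
    exact (Characters.Core.isIrr_isClassFunction χ.2) _ _
  · intro σ hσ x
    obtain ⟨x, rfl⟩ := pr_surjective x
    rw [phi_pr, key, key, ← hσ (x : GL (Fin n) F)]
    refine congrArg (χ : GL (Fin n) F → ℂ) (Units.ext ?_)
    rfl
  · intro h x
    obtain ⟨x, rfl⟩ := pr_surjective x
    rw [iot_pr, key, key, ← h (x : GL (Fin n) F)]
    refine congrArg (χ : GL (Fin n) F → ℂ) (Units.ext ?_)
    change ((itr x : Matrix.SpecialLinearGroup (Fin n) F) : Matrix (Fin n) (Fin n) F) = _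
    rw [coe_itr, coe_itGL, ← map_inv]
    rfl

end Cfsg.Agent.H695.LB.Tr
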