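import Cfsg.Agent.H695.LB.Ext
import Cfsg.Agent.H695.LB.Tr
import Cfsg.Agent.LieRecognition.FieldSemilinear

/-!
# S4933, label route: outer automorphisms of `PSL_n(F)` of `p`-power order, `p` odd, `p ∤ |F| - 1` (helper695)

* `act N e : A →* Aut S` : the action of `A` on `N ≃* S`;
* `exists_hom` : for a `p`-subgroup `P` of `A`, `N ≃* PSL_n(F)`, `C_A(N) = 1`: `f : P →* Aut F` with
  `act x = Psi g * phi (f x)` and `f x = 1 → x ∈ N`;
* `exists_inv` : from `χ ∈ B_0(GL_n(F))` fixed by the field automorphisms of `p`-power order to `ψ ∈ B_0(N)` of the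
  same degree, fixed by `P`, and `N P / N` cyclic.
-/

set_option autoImplicit false

open Cfsg Subgroup Matrix
open Cfsg.Agent.ClassicalGeometry.AutPSL.Root
open Cfsg.Agent.ClassicalGeometry.AutPSL.Auto
open Cfsg.Agent.ClassicalGeometry.AutPSL.Main
open Cfsg.Agent.H199.PslAut Cfsg.Agent.H316.HT

namespace Cfsg.Agent.H695.LB.Out

universe u v

section action

variable {A : Type u} [Group A] {S : Type v} [Group S] (N : Subgroup A) [hNn : N.Normal] (e : N ≃* S)

/-- the action on `S` -/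
noncomputable def act : A →* MulAut S := (MulAut.congr e).toMonoidHom.comp MulAut.conjNormal

theorem act_apply (x : A) (y : N) : act N e x (e y) = e ⟨x * y * x⁻¹, hNn.conj_mem (y : A) y.2 x⟩ := by
  change e (MulAut.conjNormal x (e.symm (e y))) = _
  rw [e.symm_apply_apply]
  rfl

theorem act_coe (y : N) : act N e y = MulAut.conj (e y) := by
  apply MulEquiv.ext
  intro z
  obtain ⟨z, rfl⟩ := e.surjective z
  rw [act_apply, MulAut.conj_apply, ← map_mul, ← map_inv, ← map_mul]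
  rfl

theorem act_injective (hC : centralizer (N : Set A) = ⊥) : Function.Injective (act N e) := by
  rw [injective_iff_map_eq_one]
  intro x hx
  rw [← Subgroup.mem_bot, ← hC, mem_centralizer_iff]
  intro y hy
  have h1 := act_apply N e x ⟨y, hy⟩
  rw [hx, MulAut.one_apply] at h1
  have h2 : y = x * y * x⁻¹ := congrArg Subtype.val (e.injective h1)
  nth_rw 1 [h2]
  group

end action

section psl

variable {F : Type} [Field F] {n : ℕ}

theorem exists_pow_form (g : GL (Fin n) F) (σ : F ≃+* F) (m : ℕ) :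
    ∃ g' : GL (Fin n) F, (Psi n F g * phi n F σ) ^ m = Psi n F g' * phi n F (σ ^ m) := by
  induction m with
  | zero => exact ⟨1, by rw [pow_zero, pow_zero, map_one, map_one, mul_one]⟩
  | succ m ih =>
    obtain ⟨g', h⟩ := ih
    refine ⟨g' * mapGL (σ ^ m) g, ?_⟩
    rw [pow_succ, h, mul_assoc, ← mul_assoc (phi n F (σ ^ m)), phi_mul_Psi, mul_assoc (Psi n F _), ← map_mul (phi n F),
      ← pow_succ, ← mul_assoc, ← map_mul (Psi n F)]

theorem exists_sq_form [Fintype F] (hn : 2 ≤ n) (α : MulAut (Matrix.ProjectiveSpecialLinearGroup (Fin n) F)) :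
    ∃ (g : GL (Fin n) F) (σ : F ≃+* F), α ^ 2 = Psi n F g * phi n F σ := by
  rcases exists_form hn α with ⟨g, σ, rfl⟩ | ⟨-, g, σ, rfl⟩
  · obtain ⟨g', h⟩ := exists_pow_form g σ 2
    exact ⟨g', _, h⟩
  · refine ⟨g * mapGL σ (itGL g), σ * σ, ?_⟩
    calc (Psi n F g * phi n F σ * iot n F) ^ 2
        = Psi n F g * phi n F σ * (iot n F * Psi n F g) * (phi n F σ * iot n F) := by
          rw [pow_two]; simp only [mul_assoc]
      _ = Psi n F g * (phi n F σ * Psi n F (itGL g)) * (iot n F * phi n F σ) * iot n F := by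
          rw [iot_mul_Psi]; simp only [mul_assoc]
      _ = Psi n F g * Psi n F (mapGL σ (itGL g)) * (phi n F σ * phi n F σ) * (iot n F * iot n F) := by
          rw [phi_mul_Psi, iot_mul_phi]; simp only [mul_assoc]
      _ = _ := by rw [iot_mul_iot, mul_one, map_mul, map_mul]

/-- **automorphisms of odd order** -/
theorem form_of_odd [Fintype F] (hn : 2 ≤ n) {α : MulAut (Matrix.ProjectiveSpecialLinearGroup (Fin n) F)} {m : ℕ}
    (hm : Odd m) (h : α ^ m = 1) :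
    ∃ (g : GL (Fin n) F) (σ : F ≃+* F), σ ^ m = 1 ∧ α = Psi n F g * phi n F σ := by
  obtain ⟨k, rfl⟩ := hm
  obtain ⟨g, σ, h1⟩ := exists_sq_form hn α
  obtain ⟨g', h2⟩ := exists_pow_form g σ (k + 1)
  have h3 : α = Psi n F g' * phi n F (σ ^ (k + 1)) := by
    rw [← h2, ← h1, ← pow_mul]
    have h4 : 2 * (k + 1) = 2 * k + 1 + 1 := by ring
    rw [h4, pow_succ, h, one_mul]
  refine ⟨g', σ ^ (k + 1), ?_, h3⟩
  obtain ⟨g'', h5⟩ := exists_pow_form g' (σ ^ (k + 1)) (2 * k + 1)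
  rw [← h3, h] at h5
  have h6 : Psi n F g'' * phi n F ((σ ^ (k + 1)) ^ (2 * k + 1)) = phi n F 1 := by rw [← h5, map_one]
  exact (Psi_phi_eq hn h6).2

variable [Fintype F] {p : ℕ} [hp : Fact p.Prime] {A : Type u} [Group A] (N : Subgroup A) [hNn : N.Normal]
  (e : N ≃* Matrix.ProjectiveSpecialLinearGroup (Fin n) F)

/-- **the field part** -/
theorem exists_hom (hp2 : p ≠ 2) (hn : 2 ≤ n) (hpq : ¬ p ∣ Fintype.card F - 1) (hC : centralizer (N : Set A) = ⊥)
    (P : Subgroup A) (hP : IsPGroup p P) :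
    ∃ f : P →* (F ≃+* F), (∀ x : P, (∃ k : ℕ, (f x) ^ p ^ k = 1) ∧
      ∃ g : GL (Fin n) F, act N e x = Psi n F g * phi n F (f x)) ∧ ∀ x : P, f x = 1 → (x : A) ∈ N := by
  classical
  have hodd : ∀ k : ℕ, Odd (p ^ k) := fun k => (hp.out.odd_of_ne_two hp2).pow
  have key : ∀ x : P, ∃ σ : F ≃+* F, (∃ k : ℕ, σ ^ p ^ k = 1) ∧
      ∃ g : GL (Fin n) F, act N e x = Psi n F g * phi n F σ := by
    intro x
    obtain ⟨k, hk⟩ := hP x
    have h1 : (act N e x) ^ p ^ k = 1 := by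
      rw [← map_pow, ← Subgroup.coe_pow, hk, Subgroup.coe_one, map_one]
    obtain ⟨g, σ, h2, h3⟩ := form_of_odd hn (hodd k) h1
    exact ⟨σ, ⟨k, h2⟩, g, h3⟩
  choose f hf1 hf2 using key
  have hmul : ∀ x y : P, f (x * y) = f x * f y := by
    intro x y
    obtain ⟨g, hg⟩ := hf2 x
    obtain ⟨h, hh⟩ := hf2 y
    obtain ⟨k, hk⟩ := hf2 (x * y)
    have h1 : Psi n F (k⁻¹ * (g * mapGL (f x) h)) * phi n F (f x * f y) = phi n F (f (x * y)) := by
      rw [map_mul (Psi n F), map_inv, mul_assoc, inv_mul_eq_iff_eq_mul, ← hk, Subgroup.coe_mul, map_mul (act N e),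
        hg, hh, map_mul (Psi n F), map_mul (phi n F), mul_assoc, mul_assoc, ← mul_assoc (Psi n F _) (phi n F (f x)),
        ← phi_mul_Psi]
      simp only [mul_assoc]
    exact (Psi_phi_eq hn h1).2.symm
  refine ⟨MonoidHom.mk' f hmul, fun x => ⟨hf1 x, hf2 x⟩, ?_⟩
  intro x hx
  change f x = 1 at hx
  obtain ⟨g, hg⟩ := hf2 x
  rw [hx, map_one, mul_one] at hg
  -- `x ^ (q - 1) ∈ N`
  have hdet : Matrix.GeneralLinearGroup.det (g ^ (Fintype.card F - 1)) = 1 := by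
    rw [map_pow, ← Fintype.card_units]
    exact pow_card_eq_one
  obtain ⟨s, hs⟩ : ∃ s : Matrix.SpecialLinearGroup (Fin n) F, (s : GL (Fin n) F) = g ^ (Fintype.card F - 1) := by
    refine ⟨⟨((g ^ (Fintype.card F - 1) : GL (Fin n) F) : Matrix (Fin n) (Fin n) F), congrArg Units.val hdet⟩, ?_⟩
    apply Units.ext
    rfl
  have h1 : (x : A) ^ (Fintype.card F - 1) ∈ N := by
    obtain ⟨y, hy⟩ := e.surjective (pr s)
    have h2 : act N e ((x : A) ^ (Fintype.card F - 1)) = act N e y := by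
      rw [map_pow, hg, ← map_pow, ← hs, Psi_coe, act_coe, hy]
    rw [act_injective N e hC h2]
    exact y.2
  obtain ⟨k, hk⟩ := hP x
  have h2 : (x : A) ^ (p ^ k) ∈ N := by
    rw [← Subgroup.coe_pow, hk]
    exact N.one_mem
  have hcop : IsCoprime ((p ^ k : ℕ) : ℤ) ((Fintype.card F - 1 : ℕ) : ℤ) := by
    rw [Nat.isCoprime_iff_coprime]
    exact Nat.Coprime.pow_left _ ((Nat.Prime.coprime_iff_not_dvd hp.out).2 hpq)
  obtain ⟨a, b, hab⟩ := hcop
  have h3 : (x : A) = ((x : A) ^ (p ^ k)) ^ a * ((x : A) ^ (Fintype.card F - 1)) ^ b := by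
    rw [← zpow_natCast, ← zpow_natCast, ← _root_.zpow_mul, ← _root_.zpow_mul, ← _root_.zpow_add, mul_comm _ a, mul_comm _ b, hab, zpow_one]
  rw [h3]
  exact N.mul_mem (N.zpow_mem h2 a) (N.zpow_mem h1 b)

include e in
theorem cyc (hp2 : p ≠ 2) (hn : 2 ≤ n) (hpq : ¬ p ∣ Fintype.card F - 1) (hC : centralizer (N : Set A) = ⊥)
    (P : Subgroup A) (hP : IsPGroup p P) : IsCyclic ((N ⊔ P : Subgroup A) ⧸ N.subgroupOf (N ⊔ P)) := by
  obtain ⟨f, -, hf⟩ := exists_hom N e hp2 hn hpq hC P hP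
  have h1 : IsCyclic (F ≃+* F) := LieRecognition.FieldSemilinear.isCyclic_ringAut F
  have h2 : IsCyclic f.range := inferInstance
  have h3 : IsCyclic (P ⧸ f.ker) :=
    isCyclic_of_surjective (QuotientGroup.quotientKerEquivRange f).symm (QuotientGroup.quotientKerEquivRange f).symm.surjective
  refine Ext.cyc_sup N P (isCyclic_of_surjective
    (QuotientGroup.map f.ker (N.subgroupOf P) (MonoidHom.id P) (fun x hx => mem_subgroupOf.2 (hf x hx))) ?_)
  intro y
  obtain ⟨y, rfl⟩ := QuotientGroup.mk_surjective y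
  exact ⟨(y : P ⧸ f.ker), rfl⟩

include e in
/-- **the character of `N`** -/
theorem exists_inv {M : Ideal AlgInt} (hM : IsPModular p M) (hp2 : p ≠ 2) (hn : 2 ≤ n) (hpF : (p : F) ≠ 0)
    (hpq : ¬ p ∣ Fintype.card F - 1) (hC : centralizer (N : Set A) = ⊥) (P : Subgroup A) (hP : IsPGroup p P)
    (χ : IrrCharacter (GL (Fin n) F)) (hχ : χ ∈ principalBlock M (GL (Fin n) F))
    (hfld : ∀ σ : F ≃+* F, (∃ k : ℕ, σ ^ p ^ k = 1) →
      ∀ g, (χ : GL (Fin n) F → ℂ) (mapGL σ g) = (χ : GL (Fin n) F → ℂ) g) :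
    ∃ ψ : IrrCharacter N, ψ ∈ principalBlock M N ∧ charDegree (ψ : N → ℂ) = charDegree (χ : GL (Fin n) F → ℂ) ∧
      ∀ x ∈ P, ∀ y : N, (ψ : N → ℂ) ⟨x * y * x⁻¹, hNn.conj_mem (y : A) y.2 x⟩ = (ψ : N → ℂ) y := by
  have hMp : M.IsPrime := hM.2.1.isPrime
  obtain ⟨ψ, h1, h2, h3, h4, -⟩ := Tr.exists_psl hM hp2 (by omega) hpF hpq χ hχ
  obtain ⟨f, hf, -⟩ := exists_hom N e hp2 hn hpq hC P hP
  refine ⟨⟨fun y => (ψ : Matrix.ProjectiveSpecialLinearGroup (Fin n) F → ℂ) (e y),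
    Characters.Core.isIrr_comp e.toMonoidHom e.surjective ψ.2⟩,
    H133.PB.mem_principalBlock_comp e.toMonoidHom e.surjective h1, ?_, ?_⟩
  · have h5 := h2 1
    change ⌊((ψ : Matrix.ProjectiveSpecialLinearGroup (Fin n) F → ℂ) (e 1)).re⌋₊ =
      ⌊((χ : GL (Fin n) F → ℂ) 1).re⌋₊
    rw [map_one] at h5 ⊢
    rw [h5, map_one]
  · intro x hx y
    change (ψ : Matrix.ProjectiveSpecialLinearGroup (Fin n) F → ℂ) (e _) =
      (ψ : Matrix.ProjectiveSpecialLinearGroup (Fin n) F → ℂ) (e y)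
    rw [← act_apply]
    obtain ⟨hk, g, hg⟩ := hf ⟨x, hx⟩
    have hg' : act N e x = Psi n F g * phi n F (f ⟨x, hx⟩) := hg
    rw [hg', MulAut.mul_apply, h3]
    exact h4 _ (hfld _ hk) _

end psl

end Cfsg.Agent.H695.LB.Out
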