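import Cfsg.Agent.H695.LB.Crit
import Cfsg.Agent.H695.LB.Out
import Cfsg.Agent.H362.HT.Over

/-!
# S4933, label route: the row of `PSL_n(F)`, `p` odd, `p ∤ |F| - 1`, from characters of `GL_n(F)` (helper695)

* `tool` : `Tool p M H` for `H ≥ P`;
* `goodOn_of_inv` : `Crit.goodOn_of_inv` without the tool;
* `row_of_gl` : a character of `B_0(GL_n(F))` with `vd p χ = 1`, fixed by the field automorphisms of `p`-power order,
  gives `Row p PSL_n(F)`.
-/

set_option autoImplicit false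

open Cfsg Subgroup
open Cfsg.Agent.H316.HT Cfsg.Agent.Characters.Core

namespace Cfsg.Agent.H695.LB

universe u v

section general

variable {p : ℕ} [hp : Fact p.Prime] {M : Ideal AlgInt} {A : Type u} [Group A] [Finite A]

theorem tool (hM : IsPModular p M) (P : Sylow p A) (H : Subgroup A) [Fintype H] (hPH : (P : Subgroup A) ≤ H) :
    Crit.Tool p M H := by
  intro ξ hξ
  obtain ⟨χ, h1, h2, h3⟩ := H362.HT.exists_over hM P H hPH ξ hξ
  exact ⟨χ, h1, h3, h2⟩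

/-- **the criterion with an invariant `ψ ∈ B_0(N)`, `N P / N` cyclic** -/
theorem goodOn_of_inv (hM : IsPModular p M) (N : Subgroup A) [hNn : N.Normal] (P : Sylow p A)
    (hcyc : IsCyclic ((N ⊔ P : Subgroup A) ⧸ N.subgroupOf (N ⊔ P))) {a : ℕ} (ψ : IrrCharacter N)
    (hψ : ψ ∈ principalBlock M N) (h1 : 0 < vd p (ψ : N → ℂ)) (ha : vd p (ψ : N → ℂ) ≤ a)
    (hinv : ∀ x ∈ (P : Subgroup A), ∀ n : N,
      (ψ : N → ℂ) ⟨x * n * x⁻¹, hNn.conj_mem (n : A) n.2 x⟩ = (ψ : N → ℂ) n) :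
    GoodOn p a M N := by
  have := Fintype.ofFinite (N ⊔ P : Subgroup A)
  exact Crit.goodOn_of_inv hM N P P.2 (tool hM P _ le_sup_right) hcyc ψ hψ h1 ha hinv

end general

variable {F : Type} [Field F] [Fintype F] {n : ℕ} {p : ℕ} [hp : Fact p.Prime]

/-- **The row of `PSL_n(F)`**, `p ∤ |F| - 1`. -/
theorem row_of_gl (hp2 : p ≠ 2) (hn : 2 ≤ n) (hpF : (p : F) ≠ 0) (hpq : ¬ p ∣ Fintype.card F - 1)
    (h : ∀ M : Ideal AlgInt, IsPModular p M → ∃ χ : IrrCharacter (Matrix.GeneralLinearGroup (Fin n) F),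
      χ ∈ principalBlock M (Matrix.GeneralLinearGroup (Fin n) F) ∧
      vd p (χ : Matrix.GeneralLinearGroup (Fin n) F → ℂ) = 1 ∧
      ∀ σ : F ≃+* F, (∃ k : ℕ, σ ^ p ^ k = 1) → ∀ g, (χ : Matrix.GeneralLinearGroup (Fin n) F → ℂ)
        (H199.PslAut.mapGL σ g) = (χ : Matrix.GeneralLinearGroup (Fin n) F → ℂ) g) :
    Row p (Matrix.ProjectiveSpecialLinearGroup (Fin n) F) := by
  intro A _ _ N _ e hC M hM P a ha _
  obtain ⟨e⟩ := e
  obtain ⟨χ, h1, h2, h3⟩ := h M hM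
  obtain ⟨ψ, h4, h5, h6⟩ := Out.exists_inv N e hM hp2 hn hpF hpq hC (P : Subgroup A) P.2 χ h1 h3
  have h7 : vd p (ψ : N → ℂ) = 1 := by
    unfold vd at h2 ⊢
    rw [h5, h2]
  exact goodOn_of_inv hM N P (Out.cyc N e hp2 hn hpq hC (P : Subgroup A) P.2) ψ h4 (by omega) (by omega) h6

end Cfsg.Agent.H695.LB
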