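import Cfsg.Agent.H695.LB.Row
import Cfsg.Agent.H674.XZ.PAbL
import Cfsg.Agent.H892.HT.Disp

/-!
# S4933: the field `psl_e2` of the dispatcher from characters of `GL_n(F)` (helper695)

* `comm_psl` : the Sylow `p`-subgroups of `PSL_n(F)` are abelian if `n < p e`, `e` the order of `|F|` mod `p`;
* `GLData` : for `p e ≤ n` a member of `B_0(GL_n(F))` with `vd p χ = 1`, fixed by the field automorphisms of `p`-power
  order;
* `psl_e2_of` : `GLData` gives the rows of `PSL_n(F)`, `p ∤ |F| (|F| - 1)`.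
-/

set_option autoImplicit false

open Cfsg Subgroup
open Cfsg.Agent.H316.HT Cfsg.Agent.Characters.Core

namespace Cfsg.Agent.H695.LB

/-- characters of the principal block of `GL_n(F)` of height one -/
def GLData : Prop :=
  ∀ (p : ℕ) [Fact p.Prime] (F : Type) [Field F] [Fintype F] (n : ℕ), p ≠ 2 → ¬ p ∣ Fintype.card F →
    2 ≤ orderOf (Fintype.card F : ZMod p) → p * orderOf (Fintype.card F : ZMod p) ≤ n →
    ∀ M : Ideal AlgInt, IsPModular p M → ∃ χ : IrrCharacter (Matrix.GeneralLinearGroup (Fin n) F),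
      χ ∈ principalBlock M (Matrix.GeneralLinearGroup (Fin n) F) ∧
      vd p (χ : Matrix.GeneralLinearGroup (Fin n) F → ℂ) = 1 ∧
      ∀ σ : F ≃+* F, (∃ k : ℕ, σ ^ p ^ k = 1) → ∀ g, (χ : Matrix.GeneralLinearGroup (Fin n) F → ℂ)
        (H199.PslAut.mapGL σ g) = (χ : Matrix.GeneralLinearGroup (Fin n) F → ℂ) g

variable {F : Type} [Field F] [Fintype F] {n : ℕ} {p : ℕ} [hp : Fact p.Prime]

/-- **abelian Sylow subgroups** -/
theorem comm_psl (hpF : (p : F) ≠ 0) (hlt : n < p * orderOf (Fintype.card F : ZMod p))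
    (P : Sylow p (Matrix.ProjectiveSpecialLinearGroup (Fin n) F)) :
    ∀ x ∈ (P : Subgroup (Matrix.ProjectiveSpecialLinearGroup (Fin n) F)),
      ∀ y ∈ (P : Subgroup (Matrix.ProjectiveSpecialLinearGroup (Fin n) F)), x * y = y * x := by
  classical
  let m : Matrix.SpecialLinearGroup (Fin n) F →* Matrix (Fin n) (Fin n) F :=
    { toFun := fun g => (g : Matrix (Fin n) (Fin n) F)
      map_one' := rfl
      map_mul' := fun _ _ => rfl }
  have hm : Function.Injective m := fun g h hgh => Subtype.ext hgh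
  let ρ : Matrix.SpecialLinearGroup (Fin n) F →* Module.End F (Fin n → F) :=
    (Matrix.toLinAlgEquiv' (R := F) (n := Fin n) : Matrix (Fin n) (Fin n) F ≃ₐ[F] _).toRingEquiv.toMonoidHom.comp m
  have hρ : Function.Injective ρ := (Matrix.toLinAlgEquiv' (R := F) (n := Fin n)).injective.comp hm
  refine H674.XZ.Iso.comm_of_lt hpF (QuotientGroup.mk' (Subgroup.center (Matrix.SpecialLinearGroup (Fin n) F)))
    (QuotientGroup.mk'_surjective _) ρ hρ ?_ P
  rw [Module.finrank_fintype_fun_eq_card, Fintype.card_fin]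
  exact hlt

/-- **The rows `psl_e2`.** -/
theorem psl_e2_of (hG : GLData) : ∀ (p : ℕ) [Fact p.Prime] (F : Type) [Field F] [Fintype F] (n : ℕ)
    [IsSimpleGroup (Matrix.ProjectiveSpecialLinearGroup (Fin n) F)], p ≠ 2 → 2 ≤ n → ¬ p ∣ Fintype.card F →
    ¬ p ∣ Fintype.card F - 1 → ¬ H892.HT.Ab p (Matrix.ProjectiveSpecialLinearGroup (Fin n) F) →
    Row p (Matrix.ProjectiveSpecialLinearGroup (Fin n) F) := by
  intro p hp F _ _ n _ hp2 hn hpF hpq hab
  have hpF' : (p : F) ≠ 0 := by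
    intro h0
    obtain ⟨r, hr⟩ := CharP.exists F
    obtain ⟨f, hrp, hf⟩ := FiniteField.card F r
    rw [CharP.cast_eq_zero_iff F r p] at h0
    have h1 : r = p := (Nat.prime_dvd_prime_iff_eq hrp hp.out).1 h0
    apply hpF
    rw [hf, h1]
    exact dvd_pow_self p f.pos.ne'
  have hcard : 1 < Fintype.card F := Fintype.one_lt_card
  have hu : (Fintype.card F : ZMod p) ≠ 0 := by
    rw [Ne, ZMod.natCast_eq_zero_iff]
    exact hpF
  have hpos : 0 < orderOf (Fintype.card F : ZMod p) := by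
    rw [orderOf_pos_iff, isOfFinOrder_iff_pow_eq_one]
    exact ⟨p - 1, Nat.sub_pos_of_lt hp.out.one_lt, ZMod.pow_card_sub_one_eq_one hu⟩
  have hone : orderOf (Fintype.card F : ZMod p) ≠ 1 := by
    rw [Ne, orderOf_eq_one_iff]
    intro h1
    apply hpq
    rw [← ZMod.natCast_eq_zero_iff, Nat.cast_sub hcard.le, h1, Nat.cast_one, sub_self]
  have hle : p * orderOf (Fintype.card F : ZMod p) ≤ n := by
    by_contra hcon
    apply hab
    intro P
    exact ⟨⟨fun x y => Subtype.ext (comm_psl hpF' (not_le.1 hcon) P x x.2 y y.2)⟩⟩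
  exact row_of_gl hp2 hn hpF' hpq (hG p F n hp2 hpF (by omega) hle)

end Cfsg.Agent.H695.LB
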