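import Cfsg.Agent.H695.LB.Ext
import Cfsg.Agent.H690.OwnD.Descent
import Cfsg.Agent.H596.Degree

/-!
# S4933: the criterion for rows with cyclic `N P / N` (helper695)

* `Tool p M H` : above every character of `B_0(H)` lies one of `B_0(A)` with no larger `p`-part of the degree
  (true if `H` contains a Sylow `p`-subgroup);
* `goodOn_of_ext` : `ψ ∈ Irr(N)`, `1 ≤ vd p ψ`, `ξ ∈ B_0(H)` over `ψ` with `vd p ξ ≤ a`: `GoodOn p a M N`;
* `goodOn_of_inv` : `ψ ∈ B_0(N)` fixed by `P`, `1 ≤ vd p ψ ≤ a`, `N P / N` cyclic: `GoodOn p a M N`.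
-/

set_option autoImplicit false

open Cfsg Subgroup
open Cfsg.Agent.H316.HT Cfsg.Agent.Characters.Core

namespace Cfsg.Agent.H695.LB.Crit

universe u v

/-- **the tool**: from `B_0(H)` to `B_0(A)` -/
def Tool (p : ℕ) (M : Ideal AlgInt) {A : Type u} [Group A] (H : Subgroup A) [Fintype H] : Prop :=
  ∀ ξ : IrrCharacter H, ξ ∈ principalBlock M H → ∃ χ : IrrCharacter A, χ ∈ principalBlock M A ∧
    classInner (fun h : H => (χ : A → ℂ) h) (ξ : H → ℂ) ≠ 0 ∧ vd p (χ : A → ℂ) ≤ vd p (ξ : H → ℂ)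

variable {p : ℕ} [hp : Fact p.Prime] {M : Ideal AlgInt} {A : Type u} [Group A] [Finite A]

theorem vd_pos_iff {G : Type u} [Group G] [Finite G] {χ : G → ℂ} (hχ : IsIrrCharacter G χ) :
    0 < vd p χ ↔ p ∣ charDegree χ := by
  have h0 : charDegree χ ≠ 0 := by
    intro h
    have h1 := Blocks.Basic.irr_one_eq_charDegree hχ
    rw [h, Nat.cast_zero] at h1
    exact isIrr_apply_one_ne_zero hχ h1
  unfold vd
  constructor
  · intro h
    by_contra hcon
    rw [Nat.factorization_eq_zero_of_not_dvd hcon] at h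
    exact lt_irrefl _ h
  · intro h
    exact hp.out.factorization_pos_of_dvd h0 h

/-- `GoodOn` from a character of `B_0(A)` over `ψ` with `p ∣ ψ(1)` -/
theorem goodOn_of_over (N : Subgroup A) [N.Normal] [Fintype N] {a : ℕ} (ψ : IrrCharacter N)
    (h1 : 0 < vd p (ψ : N → ℂ)) (χ : IrrCharacter A) (hχ : χ ∈ principalBlock M A)
    (hov : classInner (fun n : N => (χ : A → ℂ) n) (ψ : N → ℂ) ≠ 0) (ha : vd p (χ : A → ℂ) ≤ a) : GoodOn p a M N := by
  classical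
  have := Fintype.ofFinite A
  have hd := (H596.charDegree_dvd_of_over N χ.2 ψ.2 hov).1
  have hψ := (vd_pos_iff ψ.2).1 h1
  refine ⟨χ, hχ, ?_, (vd_pos_iff χ.2).2 (hψ.trans hd), ha⟩
  by_contra hcon
  push Not at hcon
  have h2 : (fun n : N => (χ : A → ℂ) n) = (χ : A → ℂ) 1 • (1 : N → ℂ) := by
    funext n
    rw [hcon n n.2, Pi.smul_apply, Pi.one_apply, smul_eq_mul, mul_one]
  rw [h2, classInner_smul_left] at hov
  have h3 : (ψ : N → ℂ) = 1 := by
    by_contra hne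
    exact hov (by rw [classInner_irr_ne isIrr_one ψ.2 (Ne.symm hne), mul_zero])
  rw [h3] at hψ
  have h4 : charDegree (1 : N → ℂ) = 1 := by
    unfold charDegree
    rw [Pi.one_apply, Complex.one_re, Nat.floor_one]
  rw [h4] at hψ
  exact hp.out.one_lt.ne' (Nat.dvd_one.1 hψ)

/-- **the criterion with `ξ ∈ B_0(H)` over `ψ`** -/
theorem goodOn_of_ext (N : Subgroup A) [N.Normal] [Fintype N] (H : Subgroup A) [Fintype H] (hNH : N ≤ H)
    (htool : Tool p M H) {a : ℕ} (ψ : IrrCharacter N) (h1 : 0 < vd p (ψ : N → ℂ)) (ξ : IrrCharacter H)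
    (hξ : ξ ∈ principalBlock M H)
    (hov : classInner (fun n : N => (ξ : H → ℂ) (Subgroup.inclusion hNH n)) (ψ : N → ℂ) ≠ 0)
    (ha : vd p (ξ : H → ℂ) ≤ a) : GoodOn p a M N := by
  classical
  have := Fintype.ofFinite A
  obtain ⟨χ, h2, h3, h4⟩ := htool ξ hξ
  exact goodOn_of_over N ψ h1 χ h2 (H690.OwnD.over_trans' N H hNH (isIrr_isCharacter χ.2) ξ.2 ψ.2 h3 hov)
    (h4.trans ha)

/-- **the criterion with an invariant `ψ ∈ B_0(N)`** -/
theorem goodOn_of_inv (hM : IsPModular p M) (N : Subgroup A) [hNn : N.Normal] (P : Subgroup A) (hP : IsPGroup p P)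
    [Fintype (N ⊔ P : Subgroup A)] (htool : Tool p M (N ⊔ P))
    (hcyc : IsCyclic ((N ⊔ P : Subgroup A) ⧸ N.subgroupOf (N ⊔ P))) {a : ℕ} (ψ : IrrCharacter N)
    (hψ : ψ ∈ principalBlock M N) (h1 : 0 < vd p (ψ : N → ℂ)) (ha : vd p (ψ : N → ℂ) ≤ a)
    (hinv : ∀ x ∈ P, ∀ n : N, (ψ : N → ℂ) ⟨x * n * x⁻¹, hNn.conj_mem (n : A) n.2 x⟩ = (ψ : N → ℂ) n) :
    GoodOn p a M N := by
  classical
  have := Fintype.ofFinite N
  obtain ⟨ξ, h2, h3⟩ := Ext.exists_ext_sup hM N P hP hcyc ψ hψ hinv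
  refine goodOn_of_ext N (N ⊔ P) le_sup_left htool ψ h1 ξ h2 ?_ ?_
  · have h4 : (fun n : N => (ξ : (N ⊔ P : Subgroup A) → ℂ) (Subgroup.inclusion le_sup_left n)) = (ψ : N → ℂ) :=
      funext fun n => h3 n
    rw [h4, classInner_irr_self ψ.2]
    exact one_ne_zero
  · have h5 : charDegree (ξ : (N ⊔ P : Subgroup A) → ℂ) = charDegree (ψ : N → ℂ) := by
      unfold charDegree
      rw [← h3 1]
      rfl
    unfold vd at ha ⊢
    rw [h5]
    exact ha

end Cfsg.Agent.H695.LB.Crit
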